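import Cfsg.Agent.EqLemmas
import Cfsg.Agent.Lib.AbelianSylow.Janko
import Cfsg.Agent.Lib.AbelianSylow.Chars.Main
import Cfsg.Agent.Lib.EvenTypeClosed.MainAtAll
import Cfsg.Agent.Lib.Goldschmidt.General.RankFacts
import Cfsg.Agent.Lib.ClosedCent.Kind
import Cfsg.Agent.Lib.Bender.Consumers
import Cfsg.Agent.Lib.OneEvenOrder.OneComposite

/-!
# Simple groups with a closed set, for the structural Goldschmidt theorem (owner: helper56)

* `secShape`          : every group satisfies `SecShape`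
* `family_or_abelian` : one of the three families, or abelian Sylow 2-subgroups
* `goldschmidt_group` : a simple group with an elementary closed set is a Goldschmidt group
* `abelian_le_centre` : abelian subgroups of a Sylow 2-subgroup invariant under its normaliser are central
-/

set_option autoImplicit false
set_option linter.unusedSectionVars false
set_option linter.style.haveILetI false

namespace Cfsg.Agent.AbelianSylow.GoldschmidtStruct

open Cfsg Subgroup Cfsg.Agent.Goldschmidt Cfsg.Agent.Goldschmidt.General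

universe u v

/-- Every group satisfies `SecShape`. -/
theorem secShape (X : Type u) [Group X] : SecShape X :=
  ClosedCent.secShape_of_mainAt (fun L _ _ => EvenTypeClosed.mainAt_all L) X

/-- The three families of Bender's theorem. -/
def InFamily (L : Type u) [Group L] : Prop :=
  (∃ (F : Type) (_ : Field F) (_ : Fintype F) (n : ℕ), 2 ≤ n ∧ Fintype.card F = 2 ^ n ∧
      Nonempty (L ≃* Matrix.ProjectiveSpecialLinearGroup (Fin 2) F)) ∨
    Cfsg.Lie.IsoSuzuki L ∨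
    (∃ (F : Type) (_ : Field F) (_ : Fintype F) (n : ℕ), 2 ≤ n ∧ Fintype.card F = (2 ^ n) ^ 2 ∧
      Nonempty (L ≃* Cfsg.PSU 3 F (2 ^ n)))

variable {L : Type u} [Group L] [Finite L]

/-- One of the families, or abelian Sylow 2-subgroups. -/
theorem family_or_abelian [IsSimpleGroup L] (hna : ¬ IsMulCommutative L) {T : Set L}
    (hT : Goldschmidt.Elem T) {x : L} (hx : x ∈ T) (hx1 : x ≠ 1) :
    InFamily L ∨ ∀ P : Sylow 2 L, IsMulCommutative (P : Subgroup L) := by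
  haveI : Fact (Nat.Prime 2) := ⟨Nat.prime_two⟩
  by_cases hse : HasStronglyEmbedded L
  · obtain ⟨M, hM, hmax⟩ := exists_coatom hse
    exact Or.inl (Bender.borel_of_simple Bender.rankOneHalf hM hmax).1
  obtain ⟨S, hS⟩ := (hT.isPGroup_zpowers hx).exists_le_sylow
  set A := hT.closed.sub (S : Subgroup L) S.isPGroup'
  have hne : A ≠ ⊥ := fun e => hx1 (mem_bot.1 (e ▸ (⟨hS (mem_zpowers x), hx⟩ : x ∈ A)))
  have hel : Cfsg.IsElementaryAbelian 2 A :=
    ⟨⟨⟨fun a b => Subtype.ext (hT.commute S.isPGroup' a.2.1 b.2.1 a.2.2 b.2.2)⟩⟩,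
      fun a ha => by rw [pow_two]; exact hT.sq a ha.2⟩
  have hsc : Cfsg.IsStronglyClosed A (S : Subgroup L) :=
    ⟨fun a ha => ha.1, fun a ha g hg => ⟨hg, hT.closed.conj g a ha.2⟩⟩
  have hna' : ∃ a b : L, a * b ≠ b * a := by
    by_contra h
    push Not at h
    exact hna ⟨⟨h⟩⟩
  obtain ⟨hel', -⟩ :=
    (EvenTypeClosed.mainAt_all L inferInstance hna' S A hne hel hsc).resolve_left hse
  exact Or.inr (AbelianSylow.sylow_comm_all S hel'.1)

/-- A simple group with an elementary closed set is a Goldschmidt group. -/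
theorem goldschmidt_group (hA : CentTarget.{u}) [IsSimpleGroup L] (hna : ¬ IsMulCommutative L)
    {T : Set L} (hT : Goldschmidt.Elem T) {x : L} (hx : x ∈ T) (hx1 : x ≠ 1) :
    Cfsg.IsGoldschmidtGroup L := by
  haveI : Fact (Nat.Prime 2) := ⟨Nat.prime_two⟩
  have heven : ∀ (F : Type) [Field F] [Fintype F] (n : ℕ), 2 ≤ n → Fintype.card F = 2 ^ n →
      Nonempty (L ≃* Matrix.ProjectiveSpecialLinearGroup (Fin 2) F) → Cfsg.IsGoldschmidtGroup L := by
    intro F _ _ n hn hF ⟨e⟩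
    rcases Nat.lt_or_ge n 3 with h3 | h3
    · obtain rfl : n = 2 := by omega
      obtain ⟨e'⟩ := OneEvenOrder.psl_four_equiv (F := F) (by rw [hF]; norm_num)
      exact Or.inr (Or.inr (Or.inr (Or.inr (Or.inl ⟨ZMod 5, inferInstance, inferInstance, 5,
        ZMod.card 5, le_rfl, Or.inr (by norm_num), ⟨e.trans e'⟩⟩))))
    · exact Or.inr (Or.inl ⟨F, inferInstance, inferInstance, n, h3, hF, ⟨e⟩⟩)
  rcases family_or_abelian hna hT hx hx1 with h | h
  · rcases h with ⟨F, _, _, n, hn, hF, he⟩ | h | ⟨F, iF, iF', n, hn, hF, he⟩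
    · exact heven F n hn hF he
    · exact Or.inr (Or.inr (Or.inl h))
    · refine Or.inr (Or.inr (Or.inr (Or.inl ⟨F, iF, iF', n, hn, ?_, he⟩)))
      rw [hF, ← pow_mul, mul_comm, pow_mul]
      norm_num
  · obtain ⟨S⟩ := (inferInstance : Nonempty (Sylow 2 L))
    rcases simple_cases hna S (h S) with ⟨n, hn, F, _, _, hF, he⟩ | h2 | h2
    · exact heven F n hn hF he
    · obtain ⟨F, iF, iF', ⟨hm, h5⟩, he⟩ := h2
      exact Or.inr (Or.inr (Or.inr (Or.inr (Or.inl ⟨F, iF, iF', _, rfl, h5, hm, he⟩))))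
    · rcases reeType_or_j1_of hA Chars.threeTarget h2 with h3 | h3
      · exact Or.inl h3
      · exact Or.inr (Or.inr (Or.inr (Or.inr (Or.inr h3))))

/-- A group in the families has coordinates on each Sylow 2-subgroup. -/
theorem exists_data [IsSimpleGroup L] (h : InFamily L) (P : Sylow 2 L) :
    ∃ q : ℕ, Rank.Basic (P : Subgroup L) q ∧ Rank.Data (P : Subgroup L) q := by
  classical
  haveI : Fact (Nat.Prime 2) := ⟨Nat.prime_two⟩
  obtain ⟨M, _, _, q, hM, ⟨e⟩⟩ : ∃ (M : Type) (_ : Group M) (_ : Finite M) (q : ℕ),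
      Rank.Model M q ∧ Nonempty (L ≃* M) := by
    rcases h with ⟨F, _, _, n, hn, hF, ⟨e⟩⟩ | ⟨F, _, _, m, hm, hF, ⟨e⟩⟩ | ⟨F, _, _, n, hn, hF, ⟨e⟩⟩
    · obtain ⟨e'⟩ := Rank.pgl_equiv_psl (n := n) (by omega) hF
      exact ⟨_, inferInstance, Finite.of_equiv _ (e.trans e').toEquiv, _, Rank.model_pgl hn hF,
        ⟨e.trans e'⟩⟩
    · exact ⟨_, inferInstance, Finite.of_equiv _ (e.trans (Suzuki.lieEquiv hm hF).symm).toEquiv, _,
        Rank.model_sz hm hF, ⟨e.trans (Suzuki.lieEquiv hm hF).symm⟩⟩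
    · exact ⟨_, inferInstance, Finite.of_equiv _ e.toEquiv, _, (Rank.model_psu hn hF).1, ⟨e⟩⟩
  obtain ⟨Ω, _, _, a, t, Q, h, -, hQ, -, B, D⟩ := hM
  let R : Sylow 2 M := P.comapOfInjective e.symm.toMonoidHom e.symm.injective
    (fun y _ => ⟨e y, e.symm_apply_apply y⟩)
  have hR : (R : Subgroup M).map e.symm.toMonoidHom = (P : Subgroup L) :=
    map_comap_eq_self_of_surjective e.symm.surjective _
  obtain ⟨g, hg⟩ := Facts.exists_conj_kernel h hQ R
  have he : Q.map (MulAut.conj g).toMonoidHom = (R : Subgroup M) := SetLike.ext fun x => by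
    rw [Subgroup.mem_map_equiv, MulAut.conj_symm_apply]
    exact (hg x).symm
  exact ⟨q, hR ▸ he ▸ (B.map (MulAut.conj g)).map e.symm, hR ▸ he ▸ (D.map (MulAut.conj g)).map e.symm⟩

/-- Abelian subgroups of a Sylow 2-subgroup invariant under its normaliser are central in it. -/
theorem abelian_le_centre [IsSimpleGroup L] (hna : ¬ IsMulCommutative L) {T : Set L}
    (hT : Goldschmidt.Elem T) {x : L} (hx : x ∈ T) (hx1 : x ≠ 1) (P : Sylow 2 L) (M : Subgroup L)
    (hMP : M ≤ (P : Subgroup L)) (hMc : ∀ a ∈ M, ∀ b ∈ M, a * b = b * a)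
    (hMN : ∀ n ∈ normalizer ((P : Subgroup L) : Set L), ∀ m ∈ M, n * m * n⁻¹ ∈ M) :
    M ≤ centre (P : Subgroup L) := by
  classical
  haveI : Fact (Nat.Prime 2) := ⟨Nat.prime_two⟩
  rcases family_or_abelian hna hT hx hx1 with h | h
  swap
  · exact fun m hm => Rank.mem_centre.2 ⟨hMP hm, fun y hy =>
      congrArg Subtype.val ((h P).is_comm.comm ⟨y, hy⟩ ⟨m, hMP hm⟩)⟩
  obtain ⟨q, B, D⟩ : ∃ q : ℕ, Rank.Basic (P : Subgroup L) q ∧ Rank.Data (P : Subgroup L) q :=
    exists_data h P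
  obtain ⟨F, _, _, _, k, φ, ψ, l, n, D⟩ := D
  intro m₀ hm₀
  rcases D.kind with hab | ⟨-, hne, -⟩
  · exact ⟨hMP hm₀, hab (hMP hm₀)⟩
  refine (B.omega _ (hMP hm₀)).1 (D.ψ_inj _ (B.sq _ (hMP hm₀)) ?_)
  let V : AddSubgroup F :=
    { carrier := φ '' (M : Set L)
      zero_mem' := ⟨1, M.one_mem, (D.φ_ker 1 (one_mem _)).2 (one_mem _)⟩
      add_mem' := by
        rintro _ _ ⟨a, ha, rfl⟩ ⟨b, hb, rfl⟩
        exact ⟨a * b, M.mul_mem ha hb, D.φ_mul _ (hMP ha) _ (hMP hb)⟩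
      neg_mem' := by
        rintro _ ⟨a, ha, rfl⟩
        exact ⟨a, ha, (CharTwo.neg_eq _).symm⟩ }
  let s : F → L := fun u => if hu : ∃ a ∈ M, φ a = u then hu.choose else 1
  have hs : ∀ a ∈ M, s (φ a) * s (φ a) = a * a := by
    intro a ha
    have hu : ∃ b ∈ M, φ b = φ a := ⟨a, ha, rfl⟩
    simp only [s, dif_pos hu]
    obtain ⟨hbM, hbe⟩ := hu.choose_spec
    set b := hu.choose
    have hz : a⁻¹ * b ∈ centre (P : Subgroup L) := by
      refine (D.φ_ker _ (mul_mem (inv_mem (hMP ha)) (hMP hbM))).1 ?_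
      have h1 := D.φ_mul _ (hMP ha) _ (mul_mem (inv_mem (hMP ha)) (hMP hbM))
      rw [mul_inv_cancel_left, hbe] at h1
      exact left_eq_add.1 h1
    have hz2 : (a⁻¹ * b) * (a⁻¹ * b) = 1 := (B.omega _ hz.1).2 hz
    have hc : a * (a⁻¹ * b) = (a⁻¹ * b) * a := (Rank.mem_centre.1 hz).2 a (hMP ha)
    calc b * b = a * ((a⁻¹ * b) * a) * (a⁻¹ * b) := by group
      _ = (a * a) * ((a⁻¹ * b) * (a⁻¹ * b)) := by rw [← hc]; group
      _ = a * a := by rw [hz2, mul_one]
  have key := Rank.hom_eq_zero (V := V) (l := l) (n := n) ?_ (fun u => ψ (s u * s u)) ?_ ?_ hne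
    (φ m₀) ⟨m₀, hm₀, rfl⟩
  · rw [← hs m₀ hm₀]
    exact key
  · rintro _ ⟨a, ha, rfl⟩
    exact ⟨k * a * k⁻¹, hMN k D.mem a ha, D.φ_conj a (hMP ha)⟩
  · rintro _ ⟨a, ha, rfl⟩ _ ⟨b, hb, rfl⟩
    rw [hs a ha, hs b hb, ← D.φ_mul _ (hMP ha) _ (hMP hb), hs _ (M.mul_mem ha hb),
      ← D.ψ_mul _ (B.sq _ (hMP ha)) _ (B.sq _ (hMP hb))]
    congr 1
    calc a * b * (a * b) = a * (b * a) * b := by group
      _ = a * a * (b * b) := by rw [← hMc a ha b hb]; group
  · rintro _ ⟨a, ha, rfl⟩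
    rw [hs a ha, ← D.φ_conj a (hMP ha), hs _ (hMN k D.mem a ha), ← D.ψ_conj _ (B.sq _ (hMP ha))]
    congr 1
    group

end Cfsg.Agent.AbelianSylow.GoldschmidtStruct
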