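import Cfsg.Agent.EqLemmas
import Cfsg.Agent.Lib.AbelianSylow.GoldschmidtStruct.Simple
import Cfsg.Agent.Lib.Goldschmidt.General.Local
import Cfsg.Agent.Lib.ClosedPair.Product
import Cfsg.Agent.Lib.LargeExtraspecial.CompProduct
import Cfsg.Agent.Lib.PQAutomizer.Key

/-!
# The configuration for the structural Goldschmidt theorem (owner: helper56)

* `Hyp X T A` : trivial odd core, `A` abelian strongly closed in `T`, generating with its conjugates
* `Hyp.quotient` : it passes to quotients by central 2-subgroups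
* `Hyp.localOf` : elementary strongly closed subgroups give local groups
* `exists_layer_mul` : combining the components
-/

set_option autoImplicit false
set_option linter.unusedSectionVars false
set_option linter.style.haveILetI false

namespace Cfsg.Agent.AbelianSylow.GoldschmidtStruct

open Cfsg Subgroup Cfsg.Agent.Goldschmidt Cfsg.Agent.Goldschmidt.General Cfsg.Agent.Components

universe u

/-- The configuration. -/
structure Hyp (X : Type u) [Group X] [Finite X] (T : Sylow 2 X) (A : Subgroup X) : Prop where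
  core : pPrimeCore 2 X = ⊥
  closed : Cfsg.IsStronglyClosed A (T : Subgroup X)
  comm : ∀ a ∈ A, ∀ b ∈ A, a * b = b * a
  gen : normalClosure (A : Set X) = ⊤

variable {X : Type u} [Group X] [Finite X]

/-- The elements of `P ⊇ A` with a conjugate in `A` lie in `A`. -/
theorem mem_of_mem (S : Sylow 2 X) {A : Subgroup X} (hsc : IsStronglyClosed A (S : Subgroup X))
    {P : Subgroup X} (hP : IsPGroup 2 ↥P) (hAP : A ≤ P) {x : X} (hx : x ∈ P) (hxT : x ∈ classSet A) :
    x ∈ A := by
  haveI : Fact (Nat.Prime 2) := ⟨Nat.prime_two⟩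
  obtain ⟨g, hg⟩ := ClosedPair.exists_conj_le S hP
  have hgA : ∀ z ∈ P, z ∈ classSet A → g * z * g⁻¹ ∈ A := by
    rintro z hz ⟨k, hk⟩
    refine (mem_classSet_iff hsc (hg z hz)).1 ⟨k * g⁻¹, ?_⟩
    rwa [show k * g⁻¹ * (g * z * g⁻¹) * (k * g⁻¹)⁻¹ = k * z * k⁻¹ by group]
  let φ : A → A := fun a => ⟨g * a * g⁻¹, hgA a (hAP a.2) (mem_classSet_of_mem a.2)⟩
  have hφ : Function.Injective φ := fun a b h => Subtype.ext
    (mul_left_cancel (mul_right_cancel (congrArg Subtype.val h)))
  obtain ⟨a, ha⟩ := (Finite.injective_iff_surjective.1 hφ) ⟨g * x * g⁻¹, hgA x hx hxT⟩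
  have h1 : (a : X) = x := mul_left_cancel (mul_right_cancel (congrArg Subtype.val ha))
  exact h1 ▸ a.2

/-- An element with compatible parts in all components. -/
theorem exists_layer_mul (x : X) (M : Subgroup X)
    (h : ∀ K : Subgroup X, Cfsg.IsComponent K → ∃ k ∈ K, k ∈ M ∧ k⁻¹ * x ∈ centralizer (K : Set X)) :
    ∃ e ∈ Cfsg.layer X, e ∈ M ∧ e * x ∈ centralizer (Cfsg.layer X : Set X) := by
  classical
  have key : ∀ s : Finset (Subgroup X), (∀ K ∈ s, Cfsg.IsComponent K) →
      ∃ e ∈ Cfsg.layer X, e ∈ M ∧ (∀ K, Cfsg.IsComponent K → K ∉ s → e ∈ centralizer (K : Set X)) ∧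
        ∀ K ∈ s, e * x ∈ centralizer (K : Set X) := by
    intro s
    induction s using Finset.induction_on with
    | empty => exact fun _ => ⟨1, one_mem _, one_mem _, fun K _ _ => one_mem _,
        fun K hK => absurd hK (Finset.notMem_empty K)⟩
    | insert K s hKs ih =>
      intro hs
      obtain ⟨e, he, heM, hout, hin⟩ := ih fun J hJ => hs J (Finset.mem_insert_of_mem hJ)
      have hK := hs K (Finset.mem_insert_self K s)
      obtain ⟨k, hk, hkM, hkx⟩ := h K hK
      have hkJ : ∀ J, Cfsg.IsComponent J → K ≠ J → k⁻¹ ∈ centralizer (J : Set X) := fun J hJ hne =>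
        mem_centralizer_iff.2 fun j hj =>
          (LargeExtraspecial.commute_components hK hJ (Ne.symm hne) (inv_mem hk) hj).symm
      have heK : e ∈ centralizer (K : Set X) := hout K hK hKs
      have hke : k⁻¹ * e = e * k⁻¹ := mem_centralizer_iff.1 heK _ (K.inv_mem hk)
      refine ⟨k⁻¹ * e, mul_mem (inv_mem (IsComponent.le_layer hK hk)) he, mul_mem (inv_mem hkM) heM,
        fun J hJ hJs => ?_, fun J hJ => ?_⟩
      · rw [Finset.mem_insert] at hJs
        push Not at hJs
        exact mul_mem (hkJ J hJ (Ne.symm hJs.1)) (hout J hJ hJs.2)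
      · rcases Finset.mem_insert.1 hJ with rfl | hJ'
        · rw [hke, mul_assoc]
          exact mul_mem heK hkx
        · rw [mul_assoc]
          exact mul_mem (hkJ J (hs J (Finset.mem_insert_of_mem hJ')) fun e' => hKs (e' ▸ hJ'))
            (hin J hJ')
  obtain ⟨e, he, heM, -, hin⟩ := key (Set.toFinite {K : Subgroup X | Cfsg.IsComponent K}).toFinset
    fun K hK => by simpa using hK
  refine ⟨e, he, heM, ?_⟩
  have h1 : Cfsg.layer X ≤ centralizer (zpowers (e * x) : Set X) :=
    layer_le fun K hK => le_centralizer_iff.1 (zpowers_le.2 (hin K (by simpa using hK)))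
  exact le_centralizer_iff.1 h1 (mem_zpowers _)

/-- Centres of components lie in `O₂` when the odd core is trivial. -/
theorem centerOf_le_pCore (hO : pPrimeCore 2 X = ⊥) {K : Subgroup X} (hK : Cfsg.IsComponent K) :
    centerOf K ≤ pCore 2 X :=
  Cores.le_pCore_of_isSubnormal
    (IsSubnormal.trans' (Normal.isSubnormal inferInstance) hK.1) (isPGroup_centerOf hO hK)

namespace Hyp

variable {T : Sylow 2 X} {A : Subgroup X} (H : Hyp X T A)
include H

theorem le : A ≤ (T : Subgroup X) := H.closed.1

theorem two : IsPGroup 2 ↥A := T.isPGroup'.to_le H.le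

theorem conj_mem {a g : X} (ha : a ∈ A) (hg : g * a * g⁻¹ ∈ (T : Subgroup X)) : g * a * g⁻¹ ∈ A :=
  H.closed.2 a ha g hg

theorem sylow_conj {t : X} (ht : t ∈ (T : Subgroup X)) {a : X} (ha : a ∈ A) : t * a * t⁻¹ ∈ A :=
  H.conj_mem ha (mul_mem (mul_mem ht (H.le ha)) (inv_mem ht))

/-- Normal subgroups centralised by `A` are central. -/
theorem le_center_of_centralizes {N : Subgroup X} [N.Normal] (h : A ≤ centralizer (N : Set X)) :
    N ≤ Subgroup.center X := by
  have h1 : normalClosure (A : Set X) ≤ centralizer (N : Set X) := normalClosure_le_normal h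
  rw [H.gen] at h1
  exact fun n hn => mem_center_iff.2 fun g => (mem_centralizer_iff.1 (h1 (mem_top g)) n hn).symm

/-- A component some conjugate of which is moved by `B`, unless `B` centralises its normal closure. -/
theorem le_centralizer_normalClosure {B : Subgroup X} {K : Subgroup X}
    (h : ∀ g : X, K.map (MulAut.conj g).toMonoidHom ≤ centralizer (B : Set X)) :
    B ≤ centralizer (normalClosure (K : Set X) : Set X) := by
  rw [le_centralizer_iff, normalClosure]
  refine (closure_le _).2 fun y hy => ?_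
  obtain ⟨k, hk, hconj⟩ := Group.mem_conjugatesOfSet_iff.1 hy
  obtain ⟨g, rfl⟩ := isConj_iff.1 hconj
  exact h g ⟨k, hk, rfl⟩

/-- Elementary strongly closed subgroups give local groups. -/
theorem localOf {Ω : Subgroup X} (hsc : IsStronglyClosed Ω (T : Subgroup X))
    (hel : ∀ a ∈ Ω, a * a = 1) : Local X (classSet Ω) Ω where
  core := H.core
  sec := secShape X
  elem := elem_classSet T hsc hel
  subset _ ha := mem_classSet_of_mem ha
  two := T.isPGroup'.to_le hsc.1
  max _ hP hAP _ hx hxT := mem_of_mem T hsc hP hAP hx hxT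

/-- Quotients by central 2-subgroups. -/
theorem quotient (N : Subgroup X) [N.Normal] (hN : IsPGroup 2 ↥N) (hc : N ≤ Subgroup.center X) :
    Hyp (X ⧸ N) (T.mapSurjective (QuotientGroup.mk'_surjective N)) (A.map (QuotientGroup.mk' N)) where
  core := haveI : Fact (Nat.Prime 2) := ⟨Nat.prime_two⟩
    PQAutomizer.pPrimeCore_quotient_central H.core hN hc
  closed := by
    haveI : Fact (Nat.Prime 2) := ⟨Nat.prime_two⟩
    refine ⟨map_mono H.le, ?_⟩
    rintro _ ⟨a, ha, rfl⟩ g hg
    obtain ⟨g, rfl⟩ := QuotientGroup.mk'_surjective N g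
    rw [← map_inv, ← map_mul, ← map_mul] at hg ⊢
    refine mem_map_of_mem _ (H.conj_mem ha ?_)
    obtain ⟨t, ht, e⟩ := hg
    have h1 : t⁻¹ * (g * a * g⁻¹) ∈ N := QuotientGroup.eq.1 e
    have h2 : N ≤ (T : Subgroup X) :=
      (Cores.le_pCore inferInstance hN).trans (Cores.pCore_le_sylow T)
    simpa using mul_mem ht (h2 h1)
  comm := by
    rintro _ ⟨a, ha, rfl⟩ _ ⟨b, hb, rfl⟩
    rw [← map_mul, ← map_mul, H.comm a ha b hb]
  gen := by
    have h := Subgroup.map_normalClosure (A : Set X) (QuotientGroup.mk' N)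
      (QuotientGroup.mk'_surjective N)
    rw [H.gen, map_top_of_surjective _ (QuotientGroup.mk'_surjective N)] at h
    rw [Subgroup.coe_map]
    exact h.symm

end Hyp

end Cfsg.Agent.AbelianSylow.GoldschmidtStruct
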