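import Cfsg.Agent.EqLemmas
import Cfsg.Agent.Lib.AbelianSylow.GoldschmidtStruct.Hyp
import Mathlib.GroupTheory.NoncommPiCoprod

/-!
# The structural Goldschmidt theorem when `O₂` is trivial (owner: helper56)

* `centralizer_layer`, `moved`, `normal` : the components
* `sq_one`, `layer_eq_top` : `A` is elementary and the group is its layer
* `mem_of_sq_one` : `A` contains the involutions of the Sylow subgroup
* `le_closure` : `A` is generated by commutators with its normaliser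
* `exists_product` : the group is a product of simple Goldschmidt groups
-/

set_option autoImplicit false
set_option linter.unusedSectionVars false
set_option linter.style.haveILetI false

namespace Cfsg.Agent.AbelianSylow.GoldschmidtStruct.Bare

open Cfsg Subgroup Cfsg.Agent.Goldschmidt Cfsg.Agent.Goldschmidt.General Cfsg.Agent.Components
open scoped commutatorElement

universe u

variable {X : Type u} [Group X] [Finite X] {T : Sylow 2 X} {A : Subgroup X}
  (H : Hyp X T A) (hB : pCore 2 X = ⊥)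
include H hB

theorem fitting_eq_bot : Cfsg.fittingSubgroup X = ⊥ := by
  haveI : Fact (Nat.Prime 2) := ⟨Nat.prime_two⟩
  rw [fitting_eq_pCore_of H.core, hB]

theorem centralizer_layer : centralizer (Cfsg.layer X : Set X) = ⊥ := by
  refine eq_bot_iff.2 ?_
  have h := ThreePrime.centralizer_pCore_inf_layer_le H.core
  rw [hB] at h
  refine le_trans (le_inf (fun x _ => ?_) le_rfl) h
  exact mem_centralizer_iff.2 fun y hy => by rw [mem_bot.1 hy, one_mul, mul_one]

theorem simple {K : Subgroup X} (hK : Cfsg.IsComponent K) :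
    IsSimpleGroup ↥K ∧ ¬ IsMulCommutative ↥K :=
  LargeExtraspecial.isSimpleGroup_component (centralizer_layer H hB) hK

theorem centerOf_eq {K : Subgroup X} (hK : Cfsg.IsComponent K) : centerOf K = ⊥ :=
  le_bot_iff.1 (hB ▸ centerOf_le_pCore H.core hK)

/-- The involutions of `A`. -/
theorem localOmega :
    Local X (classSet (omega A ⟨⟨fun a b => Subtype.ext (H.comm a a.2 b b.2)⟩⟩))
      (omega A ⟨⟨fun a b => Subtype.ext (H.comm a a.2 b b.2)⟩⟩) := by
  refine H.localOf ⟨fun x hx => H.le hx.1, fun x hx g hg => ⟨H.conj_mem hx.1 hg, ?_⟩⟩ fun a ha => ha.2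
  rw [show g * x * g⁻¹ * (g * x * g⁻¹) = g * (x * x) * g⁻¹ by group, hx.2, mul_one, mul_inv_cancel]

/-- Every component contains an involution of `A`. -/
theorem exists_involution {K : Subgroup X} (hK : Cfsg.IsComponent K) :
    ∃ v ∈ A, v ∈ K ∧ v ≠ 1 ∧ v * v = 1 := by
  classical
  haveI : Fact (Nat.Prime 2) := ⟨Nat.prime_two⟩
  have L := localOmega H hB
  set Ω := omega A ⟨⟨fun a b => Subtype.ext (H.comm a a.2 b b.2)⟩⟩
  set N := normalClosure (K : Set X) with hN
  -- `A` meets the normal closure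
  obtain ⟨a, haA, haN, ha1⟩ : ∃ a ∈ A, a ∈ N ∧ a ≠ 1 := by
    by_contra hno
    push Not at hno
    have hd : ∀ x ∈ ClosedPair.classOf A, x ∈ N → x = 1 := by
      rintro x ⟨g, hg⟩ hxN
      exact conj_eq_one_iff.1 (hno _ hg ((normalClosure_normal (s := (K : Set X))).conj_mem x hxN g))
    have hle := ClosedPair.le_centralizer_of_disjoint H.core (ClosedPair.closed_classOf T H.closed) hd
    have hA : A ≤ centralizer (N : Set X) := fun x hx =>
      hle (subset_closure (ClosedPair.mem_classOf_of_mem hx))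
    have hc := H.le_center_of_centralizes (N := N) hA
    refine IsComponent.not_le_centralizer hK fun k hk => mem_centralizer_iff.2 fun y _ => ?_
    exact mem_center_iff.1 (hc (subset_normalClosure hk)) y
  obtain ⟨w, hw, hwN, hw1⟩ : ∃ w ∈ Ω, w ∈ N ∧ w ≠ 1 := by
    obtain ⟨j, hj⟩ := H.two ⟨a, haA⟩
    have hj' : a ^ 2 ^ j = 1 := congrArg Subtype.val hj
    clear hj
    induction j with
    | zero => exact absurd (by simpa using hj') ha1
    | succ j ih =>
      by_cases h : a ^ 2 ^ j = 1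
      · exact ih h
      · exact ⟨a ^ 2 ^ j, ⟨A.pow_mem haA _, by rw [← pow_add, ← two_mul, ← pow_succ']; exact hj'⟩,
          N.pow_mem haN _, h⟩
  -- some conjugate is moved
  obtain ⟨g, hg⟩ : ∃ g : X, Moved Ω (K.map (MulAut.conj g).toMonoidHom) := by
    by_contra hno
    push Not at hno
    have h1 := Hyp.le_centralizer_normalClosure H (B := Ω) (K := K) fun g =>
      not_not.1 fun h => hno g ⟨IsComponent.conj hK g, h⟩
    refine hw1 (mem_bot.1 (fitting_eq_bot H hB ▸ ?_))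
    haveI : IsMulCommutative ↥(N ⊓ centralizer (N : Set X) : Subgroup X) :=
      ⟨⟨fun a b => Subtype.ext (mem_centralizer_iff.1 b.2.2 a a.2.1)⟩⟩
    exact Cores.le_fittingSubgroup_of_isMulCommutative (N ⊓ centralizer (N : Set X))
      ⟨hwN, h1 hw⟩
  have hM := moved_conj L hg g⁻¹
  have e : (K.map (MulAut.conj g).toMonoidHom).map (MulAut.conj g⁻¹).toMonoidHom = K := by
    rw [Subgroup.map_map]
    convert Subgroup.map_id K using 2
    ext x
    simp [mul_assoc]
  rw [e] at hM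
  obtain ⟨v, hvA, hvK, hvZ⟩ := exists_mem_inter L hK (exists_member L hM)
  exact ⟨v, hvA.1, hvK, fun h => hvZ (h ▸ one_mem _), hvA.2⟩

/-- `A` normalises the components, so they are normal. -/
theorem normal {K : Subgroup X} (hK : Cfsg.IsComponent K) : K.Normal := by
  have hA : ∀ J : Subgroup X, Cfsg.IsComponent J → ∀ a ∈ A, J.map (MulAut.conj a).toMonoidHom = J := by
    intro J hJ a ha
    obtain ⟨v, hvA, hvJ, hv1, -⟩ := exists_involution H hB hJ
    have hJ' := IsComponent.conj hJ a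
    by_contra hne
    have hvJ' : v ∈ J.map (MulAut.conj a).toMonoidHom := ⟨v, hvJ, by
      show a * v * a⁻¹ = v
      rw [H.comm a ha v hvA, mul_inv_cancel_right]⟩
    refine hv1 (mem_bot.1 (centerOf_eq H hB hJ ▸ ?_))
    exact mem_centerOf.2 ⟨hvJ, fun k hk =>
      LargeExtraspecial.commute_components hJ hJ' hne hk hvJ'⟩
  rw [← normalizer_eq_top_iff, eq_top_iff, ← H.gen, normalClosure]
  refine (closure_le _).2 fun y hy => ?_
  obtain ⟨a, ha, hconj⟩ := Group.mem_conjugatesOfSet_iff.1 hy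
  obtain ⟨g, rfl⟩ := isConj_iff.1 hconj
  refine Coprime.mem_normalizer_of_forall fun k hk => ?_
  have hJ := IsComponent.conj hK g⁻¹
  have h1 : g⁻¹ * k * g⁻¹⁻¹ ∈ K.map (MulAut.conj g⁻¹).toMonoidHom := ⟨k, hk, rfl⟩
  have h2 : a * (g⁻¹ * k * g⁻¹⁻¹) * a⁻¹ ∈ K.map (MulAut.conj g⁻¹).toMonoidHom :=
    (hA _ hJ a ha).le ⟨_, h1, rfl⟩
  obtain ⟨k', hk', e⟩ := h2
  have e' : g⁻¹ * k' * g⁻¹⁻¹ = a * (g⁻¹ * k * g⁻¹⁻¹) * a⁻¹ := e
  have : g * a * g⁻¹ * k * (g * a * g⁻¹)⁻¹ = k' := by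
    calc g * a * g⁻¹ * k * (g * a * g⁻¹)⁻¹ = g * (a * (g⁻¹ * k * g⁻¹⁻¹) * a⁻¹) * g⁻¹ := by group
      _ = k' := by rw [← e']; group
  rw [this]
  exact hk'

/-- A component with the Sylow subgroup `T ∩ K` and a member of `A`. -/
theorem exists_component_data {K : Subgroup X} (hK : Cfsg.IsComponent K) :
    ∃ (Q : Sylow 2 ↥K) (S : Set ↥K) (v : ↥K), (Q : Subgroup ↥K) = (T : Subgroup X).subgroupOf K ∧
      Goldschmidt.Elem S ∧ v ∈ S ∧ v ≠ 1 ∧ (v : X) ∈ A ∧ v * v = 1 := by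
  haveI : Fact (Nat.Prime 2) := ⟨Nat.prime_two⟩
  obtain ⟨v, hvA, hvK, hv1, hv2⟩ := exists_involution H hB hK
  obtain ⟨Q, hQ⟩ := Cores.sylow_inf_isSubnormal T hK.1
  refine ⟨Q, _, ⟨v, hvK⟩, hQ, (localOmega H hB).elem.preimage K.subtype_injective, ?_,
    fun h => hv1 (congrArg Subtype.val h), hvA, Subtype.ext hv2⟩
  exact mem_classSet_of_mem (show v ∈ omega A _ from ⟨hvA, hv2⟩)

/-- What a component contributes. -/
structure Part (A : Subgroup X) (T : Subgroup X) (K : Subgroup X) : Prop where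
  proj : ∀ a ∈ A, ∃ k ∈ K, k ∈ A ∧ k * k = 1 ∧ k⁻¹ * a ∈ centralizer (K : Set X)
  invol : ∀ x ∈ T, x ∈ K → x * x = 1 → x ∈ A
  gen : ∀ x ∈ T, x ∈ K → x * x = 1 →
    x ∈ closure {y | ∃ n ∈ normalizer (A : Set X), ∃ a ∈ A, y = ⁅n, a⁆}

theorem part {K : Subgroup X} (hK : Cfsg.IsComponent K) : Part A (T : Subgroup X) K := by
  classical
  haveI : Fact (Nat.Prime 2) := ⟨Nat.prime_two⟩
  haveI := normal H hB hK
  obtain ⟨hs, hna⟩ := simple H hB hK
  haveI := hs
  obtain ⟨Q, S, v, hQ, hS, hvS, hv1, hvA, hv2⟩ := exists_component_data H hB hK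
  have hQm : ∀ y : ↥K, y ∈ (Q : Subgroup ↥K) ↔ (y : X) ∈ (T : Subgroup X) := fun y => by
    rw [hQ, mem_subgroupOf]
  obtain ⟨q, hq⟩ := secShape X ↥K K (MonoidHom.id _) Function.surjective_id hs
    (by by_contra h; push Not at h; exact hna ⟨⟨h⟩⟩) ⟨S, hS, v, hvS, hv1⟩
  have F := General.shapeFacts hq
  set Z := centre (Q : Subgroup ↥K) with hZ
  have hker : ∀ k : ↥K, (k : X) ∈ centralizer (K : Set X) → k = 1 := fun k hk =>
    mem_bot.1 (F.center ▸ mem_center_iff.2 fun g =>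
      Subtype.ext (mem_centralizer_iff.1 hk g g.2))
  have hvZ : v ∈ Z := (F.omega Q v ((hQm v).2 (H.le hvA))).1 hv2
  obtain ⟨h, hh, htor, -, -⟩ := F.torus Q
  -- the centre is in `A`
  have hconjQ : ∀ n ∈ normalizer ((Q : Subgroup ↥K) : Set ↥K), ∀ m ∈ (Q : Subgroup ↥K),
      n * m * n⁻¹ ∈ (Q : Subgroup ↥K) := fun n hn m hm => (mem_normalizer_iff.1 hn m).1 hm
  have hinv : ∀ n ∈ normalizer ((Q : Subgroup ↥K) : Set ↥K), ∀ m ∈ (Q : Subgroup ↥K),
      (m : X) ∈ A → ((n * m * n⁻¹ : ↥K) : X) ∈ A := by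
    intro n hn m hm hmA
    have := H.conj_mem (g := (n : X)) hmA (by simpa using (hQm _).1 (hconjQ n hn m hm))
    simpa using this
  have hZA : ∀ z ∈ Z, (z : X) ∈ A := by
    intro z hz
    by_cases hz1 : z = 1
    · rw [hz1]; exact one_mem A
    obtain ⟨j, rfl⟩ := htor.trans v hvZ z hz hv1 hz1
    exact hinv _ (pow_mem hh j) v hvZ.1 hvA
  -- `A ∩ K` is the centre
  have hAK : ∀ m : ↥K, (m : X) ∈ A → m ∈ Z := by
    have hle := abelian_le_centre hna hS hvS hv1 Q (A.subgroupOf K)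
      (fun m hm => (hQm m).2 (H.le (mem_subgroupOf.1 hm)))
      (fun a ha b hb => Subtype.ext (H.comm _ ha _ hb))
      (fun n hn m hm => mem_subgroupOf.2 (hinv n hn m ((hQm m).2 (H.le hm)) hm))
    exact fun m hm => hle (mem_subgroupOf.2 hm)
  -- members of `A` are inner
  have hact : ∀ a ∈ A, ∃ s : ↥K, s ∈ (Q : Subgroup ↥K) ∧ (s : X)⁻¹ * a ∈ centralizer (K : Set X) := by
    intro a ha
    obtain ⟨j, hj⟩ := H.two ⟨a, ha⟩
    set α : MulAut ↥K := MulAut.conjNormal a with hα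
    have hαv : ∀ y : ↥K, ((α y : ↥K) : X) = a * y * a⁻¹ := fun y => MulAut.conjNormal_apply a y
    obtain ⟨s, hs, hαs⟩ := F.autInner Q α ⟨j, by
        rw [hα, ← map_pow, show a ^ 2 ^ j = 1 from congrArg Subtype.val hj, map_one]⟩
      (fun z hz => Subtype.ext (by
        rw [hαv, H.comm a ha _ (hZA z hz), mul_inv_cancel_right]))
      (fun x hx => hAK _ (by
        rw [Subgroup.coe_mul, Subgroup.coe_inv, hαv,
          show (x : X)⁻¹ * (a * x * a⁻¹) = ((x : X)⁻¹ * a * (x : X)⁻¹⁻¹) * a⁻¹ by group]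
        exact A.mul_mem (H.sylow_conj (inv_mem ((hQm x).1 hx)) ha) (A.inv_mem ha)))
    refine ⟨s, hs, mem_centralizer_iff.2 fun y hy => ?_⟩
    have h1 : a * y * a⁻¹ = (s : X) * y * (s : X)⁻¹ := by
      have := congrArg Subtype.val (MulEquiv.congr_fun hαs ⟨y, hy⟩)
      rw [hαv] at this
      simpa using this
    calc y * ((s : X)⁻¹ * a) = (s : X)⁻¹ * ((s : X) * y * (s : X)⁻¹) * a := by group
      _ = (s : X)⁻¹ * (a * y * a⁻¹) * a := by rw [h1]
      _ = (s : X)⁻¹ * a * y := by group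
  have hmove : ∀ n ∈ normalizer ((Q : Subgroup ↥K) : Set ↥K), ∀ a ∈ A, ∀ s ∈ (Q : Subgroup ↥K),
      (s : X)⁻¹ * a ∈ centralizer (K : Set X) →
      (n : X) * a * (n : X)⁻¹ ∈ A ∧
        ((n * s * n⁻¹ : ↥K) : X)⁻¹ * ((n : X) * a * (n : X)⁻¹) ∈ centralizer (K : Set X) := by
    intro n hn a ha s hs hc
    have e : (n : X) * a * (n : X)⁻¹ = ((n * s * n⁻¹ : ↥K) : X) * ((s : X)⁻¹ * a) := by
      calc (n : X) * a * (n : X)⁻¹
          = (n : X) * (s : X) * (((s : X)⁻¹ * a) * (n : X)⁻¹) := by group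
        _ = (n : X) * (s : X) * ((n : X)⁻¹ * ((s : X)⁻¹ * a)) := by
          rw [mem_centralizer_iff.1 hc _ (K.inv_mem n.2)]
        _ = _ := by simp [mul_assoc]
    refine ⟨H.conj_mem ha ?_, ?_⟩
    · rw [e]
      exact mul_mem ((hQm _).1 (hconjQ n hn s hs)) (mul_mem (inv_mem ((hQm s).1 hs)) (H.le ha))
    · rw [e, inv_mul_cancel_left]
      exact hc
  -- the projection of `A`
  let M : Subgroup ↥K :=
    { carrier := {k | ∃ a ∈ A, (k : X)⁻¹ * a ∈ centralizer (K : Set X)}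
      one_mem' := ⟨1, A.one_mem, by simp⟩
      mul_mem' := by
        rintro k k' ⟨a, ha, hc⟩ ⟨a', ha', hc'⟩
        refine ⟨a * a', A.mul_mem ha ha', ?_⟩
        have e : ((k * k' : ↥K) : X)⁻¹ * (a * a') = ((k : X)⁻¹ * a) * ((k' : X)⁻¹ * a') := by
          rw [Subgroup.coe_mul, mul_inv_rev]
          calc (k' : X)⁻¹ * (k : X)⁻¹ * (a * a') = ((k' : X)⁻¹ * ((k : X)⁻¹ * a)) * a' := by group
            _ = _ := by rw [mem_centralizer_iff.1 hc _ (K.inv_mem k'.2)]; group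
        rw [e]
        exact mul_mem hc hc'
      inv_mem' := by
        rintro k ⟨a, ha, hc⟩
        refine ⟨a⁻¹, A.inv_mem ha, ?_⟩
        have h1 := mem_centralizer_iff.1 (inv_mem hc) _ k.2
        rw [Subgroup.coe_inv, inv_inv,
          show (k : X) * a⁻¹ = (k : X) * ((k : X)⁻¹ * a)⁻¹ * (k : X)⁻¹ by group, h1,
          mul_inv_cancel_right]
        exact inv_mem hc }
  have hMQ : ∀ k ∈ M, ∀ a ∈ A, (k : X)⁻¹ * a ∈ centralizer (K : Set X) → k ∈ (Q : Subgroup ↥K) := by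
    intro k _ a ha hc
    obtain ⟨s, hs, hsc⟩ := hact a ha
    have h1 : ((s⁻¹ * k : ↥K) : X) ∈ centralizer (K : Set X) := by
      have := mul_mem hsc (inv_mem hc)
      rw [Subgroup.coe_mul, Subgroup.coe_inv]
      simpa [mul_assoc] using this
    rwa [inv_mul_eq_one.1 (hker _ h1)] at hs
  have hMcomm : ∀ x ∈ M, ∀ y ∈ M, x * y = y * x := by
    rintro x ⟨a, ha, hc⟩ y ⟨b, hb, hd⟩
    have ex : ((x : X)⁻¹ * a) * (y : X)⁻¹ = (y : X)⁻¹ * ((x : X)⁻¹ * a) :=
      (mem_centralizer_iff.1 hc _ (K.inv_mem y.2)).symm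
    have ey : ((y : X)⁻¹ * b) * (x : X)⁻¹ = (x : X)⁻¹ * ((y : X)⁻¹ * b) :=
      (mem_centralizer_iff.1 hd _ (K.inv_mem x.2)).symm
    have h1 : ((x : X)⁻¹ * a) * ((y : X)⁻¹ * b) ∈ centralizer (K : Set X) := mul_mem hc hd
    have h2 : ((y : X)⁻¹ * b) * ((x : X)⁻¹ * a) ∈ centralizer (K : Set X) := mul_mem hd hc
    refine inv_mul_eq_one.1 (hker _ ?_)
    have e : (((x * y)⁻¹ * (y * x) : ↥K) : X) =
        ((x : X)⁻¹ * a * ((y : X)⁻¹ * b)) * (((y : X)⁻¹ * b) * ((x : X)⁻¹ * a))⁻¹ := by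
      have ha' : a = (x : X) * ((x : X)⁻¹ * a) := by group
      have hb' : b = (y : X) * ((y : X)⁻¹ * b) := by group
      generalize hc1 : (x : X)⁻¹ * a = c at ex ha'
      generalize hd1 : (y : X)⁻¹ * b = d at ey hb'
      have h := H.comm a ha b hb
      rw [ha', hb'] at h
      have exy : c * (y : X) = (y : X) * c := by
        calc c * (y : X) = (y : X) * ((y : X)⁻¹ * c) * y := by group
          _ = _ := by rw [← ex]; group
      have eyx : d * (x : X) = (x : X) * d := by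
        calc d * (x : X) = (x : X) * ((x : X)⁻¹ * d) * x := by group
          _ = _ := by rw [← ey]; group
      have h3 : (x : X) * y * (c * d) = (y : X) * x * (d * c) := by
        calc (x : X) * y * (c * d) = (x : X) * (y * c) * d := by group
          _ = (x : X) * c * (y * d) := by rw [← exy]; group
          _ = (y : X) * d * (x * c) := h
          _ = (y : X) * (d * x) * c := by group
          _ = _ := by rw [eyx]; group
      simp only [Subgroup.coe_mul, Subgroup.coe_inv]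
      calc ((x : X) * y)⁻¹ * ((y : X) * x)
          = ((x : X) * y)⁻¹ * ((y : X) * x * (d * c)) * (d * c)⁻¹ := by group
        _ = _ := by rw [← h3]; group
    rw [e]
    exact mul_mem h1 (inv_mem h2)
  have hMZ : M ≤ Z := by
    refine abelian_le_centre hna hS hvS hv1 Q M (fun k hk => ?_) hMcomm ?_
    · obtain ⟨a, ha, hc⟩ := id hk
      exact hMQ k hk a ha hc
    · intro n hn k hk
      obtain ⟨a, ha, hc⟩ := id hk
      obtain ⟨h1, h2⟩ := hmove n hn a ha k (hMQ k hk a ha hc) hc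
      exact ⟨_, h1, h2⟩
  have hsqZ : ∀ z ∈ Z, z * z = 1 := fun z hz => (F.omega Q z hz.1).2 hz
  refine ⟨fun a ha => ?_, fun x hxT hxK hx2 => ?_, fun x hxT hxK hx2 => ?_⟩
  · obtain ⟨s, hs, hc⟩ := hact a ha
    have hsZ : s ∈ Z := hMZ ⟨a, ha, hc⟩
    exact ⟨s, s.2, hZA s hsZ, congrArg Subtype.val (hsqZ s hsZ), hc⟩
  · exact hZA ⟨x, hxK⟩ ((F.omega Q ⟨x, hxK⟩ ((hQm _).2 hxT)).1 (Subtype.ext hx2))
  · -- the torus has no fixed point on the centre
    have hxZ : (⟨x, hxK⟩ : ↥K) ∈ Z := (F.omega Q ⟨x, hxK⟩ ((hQm _).2 hxT)).1 (Subtype.ext hx2)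
    have hhZ : ∀ z ∈ Z, h * z * h⁻¹ ∈ Z := fun z hz => (mem_normalizer_iff.1 htor.mem z).1 hz
    have hZc : ∀ z ∈ Z, ∀ z' ∈ Z, z * z' = z' * z := fun z hz z' hz' =>
      (mem_centralizer_iff.1 hz.2 z' hz'.1).symm
    have hfpf : ∀ z ∈ Z, h * z * h⁻¹ = z → z = 1 := by
      intro z hz hfix
      by_contra hne
      have hfixn : ∀ j : ℕ, h ^ j * z * (h ^ j)⁻¹ = z := by
        intro j
        induction j with
        | zero => simp
        | succ j ih =>
          calc h ^ (j + 1) * z * (h ^ (j + 1))⁻¹ = h * (h ^ j * z * (h ^ j)⁻¹) * h⁻¹ := by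
                rw [pow_succ']; group
            _ = z := by rw [ih, hfix]
      have hle : (Z : Set ↥K) ⊆ {1, z} := fun y hy => or_iff_not_imp_left.2 fun hy1 => by
        obtain ⟨j, hj⟩ := htor.trans z hz y hy hne hy1
        exact hj.symm.trans (hfixn j)
      have h6 := Nat.card_mono (Set.toFinite _) hle
      rw [Nat.card_coe_set_eq, Nat.card_coe_set_eq, Set.ncard_pair (Ne.symm hne)] at h6
      have h7 := F.card_centre Q
      rw [← hZ, ← SetLike.coe_sort_coe, Nat.card_coe_set_eq] at h7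
      have := F.four
      omega
    let ψ : ↥Z → ↥Z := fun w => ⟨h * w * h⁻¹ * (w : ↥K)⁻¹, Z.mul_mem (hhZ _ w.2) (Z.inv_mem w.2)⟩
    have hψ : Function.Injective ψ := by
      intro w₁ w₂ e
      have e' : h * (w₁ : ↥K) * h⁻¹ * (w₁ : ↥K)⁻¹ = h * (w₂ : ↥K) * h⁻¹ * (w₂ : ↥K)⁻¹ :=
        congrArg Subtype.val e
      refine Subtype.ext (inv_mul_eq_one.1 (hfpf _ (Z.mul_mem (Z.inv_mem w₁.2) w₂.2) ?_))
      have hw := hZc _ (Z.inv_mem w₁.2) _ (hhZ _ w₂.2)
      calc h * ((w₁ : ↥K)⁻¹ * (w₂ : ↥K)) * h⁻¹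
          = (h * (w₁ : ↥K) * h⁻¹)⁻¹ * (h * (w₂ : ↥K) * h⁻¹) := by group
        _ = (h * (w₁ : ↥K) * h⁻¹ * (w₁ : ↥K)⁻¹ * w₁)⁻¹ * (h * (w₂ : ↥K) * h⁻¹) := by group
        _ = (w₁ : ↥K)⁻¹ * (h * (w₁ : ↥K) * h⁻¹ * (w₁ : ↥K)⁻¹)⁻¹ * (h * (w₂ : ↥K) * h⁻¹) := by group
        _ = (w₁ : ↥K)⁻¹ * (w₂ : ↥K) := by rw [e']; group
    obtain ⟨w, hw⟩ := Finite.surjective_of_injective hψ ⟨_, hxZ⟩
    have hhA : (h : X) ∈ normalizer (A : Set X) := Coprime.mem_normalizer_of_forall fun a ha => by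
      obtain ⟨s, hs, hc⟩ := hact a ha
      exact (hmove h hh a ha s hs hc).1
    refine subset_closure ⟨(h : X), hhA, ((w : ↥K) : X), hZA _ w.2, ?_⟩
    have := congrArg (fun y : ↥Z => ((y : ↥K) : X)) hw
    rw [commutatorElement_def]
    exact this.symm

/-- `A` is elementary and lies in the layer. -/
theorem sq_one_mem {a : X} (ha : a ∈ A) : a * a = 1 ∧ a ∈ Cfsg.layer X := by
  obtain ⟨e, he, heM, hec⟩ := exists_layer_mul a (omega A ⟨⟨fun a b => Subtype.ext (H.comm a a.2 b b.2)⟩⟩)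
    fun K hK => by
      obtain ⟨k, hk, hkA, hk2, hc⟩ := (part H hB hK).proj a ha
      exact ⟨k, hk, ⟨hkA, hk2⟩, hc⟩
  rw [centralizer_layer H hB, mem_bot] at hec
  rw [eq_inv_of_mul_eq_one_right hec]
  exact ⟨(inv_mem heM : e⁻¹ ∈ omega A _).2, inv_mem he⟩

theorem sq_one {a : X} (ha : a ∈ A) : a * a = 1 := (sq_one_mem H hB ha).1

theorem layer_eq_top : Cfsg.layer X = ⊤ := by
  haveI : (Cfsg.layer X).Normal := layer_normal
  rw [eq_top_iff, ← H.gen]
  exact normalClosure_le_normal fun a ha => (sq_one_mem H hB ha).2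

/-- `A` contains the involutions of `T`. -/
theorem mem_of_sq_one {x : X} (hxT : x ∈ (T : Subgroup X)) (hx2 : x * x = 1) : x ∈ A := by
  haveI : Fact (Nat.Prime 2) := ⟨Nat.prime_two⟩
  have hC := centralizer_layer H hB
  obtain ⟨e, he, heA, hec⟩ := exists_layer_mul x A fun K hK => by
    haveI := normal H hB hK
    obtain ⟨l, hl, n, hn, rfl⟩ := LargeExtraspecial.exists_decomp hK
      (layer_eq_top H hB ▸ mem_top x : x ∈ Cfsg.layer X)
    have hln : ∀ k ∈ K, k * n = n * k := fun k hk => LargeExtraspecial.commute_rest hK hk hn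
    have hl2 : l * l = 1 := by
      refine LargeExtraspecial.eq_one_of_mem hC hK (mul_mem hl hl) ?_
      have h1 : l * l * (n * n) = 1 := by
        calc l * l * (n * n) = l * (l * n) * n := by group
          _ = l * (n * l) * n := by rw [hln l hl]
          _ = (l * n) * (l * n) := by group
          _ = 1 := hx2
      rw [eq_inv_of_mul_eq_one_left h1]
      exact inv_mem (mul_mem hn hn)
    obtain ⟨Q, hQ⟩ := Cores.sylow_inf_isSubnormal T hK.1
    have hlQ : (⟨l, hl⟩ : ↥K) ∈ normalizer ((Q : Subgroup ↥K) : Set ↥K) := by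
      refine Coprime.mem_normalizer_of_forall fun y hy => ?_
      rw [hQ, mem_subgroupOf] at hy ⊢
      have h1 : l * n * y * (l * n)⁻¹ = l * y * l⁻¹ := by
        calc l * n * y * (l * n)⁻¹ = l * (n * y) * n⁻¹ * l⁻¹ := by group
          _ = l * y * l⁻¹ := by rw [← hln y y.2]; group
      have h2 := mul_mem (mul_mem hxT hy) (inv_mem hxT)
      rw [h1] at h2
      simpa using h2
    have hlz : IsPGroup 2 ↥(zpowers (⟨l, hl⟩ : ↥K)) :=
      ClosedPair.isPGroup_zpowers_of_sq (Subtype.ext hl2)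
    have hmem : (⟨l, hl⟩ : ↥K) ∈ (Q : Subgroup ↥K) :=
      (Q.is_maximal' (IsPGroup.to_sup_of_normal_right' hlz Q.isPGroup' (zpowers_le.2 hlQ))
        le_sup_right).le (mem_sup_left (mem_zpowers _))
    rw [hQ, mem_subgroupOf] at hmem
    refine ⟨l, hl, (part H hB hK).invol l hmem hl hl2, ?_⟩
    rw [inv_mul_cancel_left]
    exact mem_centralizer_iff.2 hln
  rw [hC, mem_bot] at hec
  rw [eq_inv_of_mul_eq_one_right hec]
  exact inv_mem heA

/-- `A` is generated by commutators with its normaliser. -/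
theorem le_closure : A ≤ closure {y | ∃ n ∈ normalizer (A : Set X), ∃ a ∈ A, y = ⁅n, a⁆} := by
  intro a ha
  obtain ⟨e, -, heW, hec⟩ := exists_layer_mul a _ fun K hK => by
    obtain ⟨k, hk, hkA, hk2, hc⟩ := (part H hB hK).proj a ha
    exact ⟨k, hk, (part H hB hK).gen k (H.le hkA) hk hk2, hc⟩
  rw [centralizer_layer H hB, mem_bot] at hec
  rw [eq_inv_of_mul_eq_one_right hec]
  exact inv_mem heW

/-- The product decomposition. -/
theorem exists_product (hA : CentTarget.{u}) :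
    ∃ (ι : Type) (_ : Fintype ι) (L : ι → Type u) (_ : ∀ i, Group (L i)),
      (∀ i, IsSimpleGroup (L i) ∧ ¬ IsMulCommutative (L i) ∧ Cfsg.IsGoldschmidtGroup (L i)) ∧
      Nonempty (X ≃* ((i : ι) → L i)) := by
  classical
  have hC := centralizer_layer H hB
  let C := {K : Subgroup X // Cfsg.IsComponent K}
  letI : Fintype C := Fintype.ofFinite C
  let e := Fintype.equivFin C
  let K : Fin (Fintype.card C) → Subgroup X := fun i => (e.symm i).1
  have hKc : ∀ i, Cfsg.IsComponent (K i) := fun i => (e.symm i).2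
  have hne : ∀ {i j}, i ≠ j → K j ≠ K i := fun h h' => h (e.symm.injective (Subtype.ext h'.symm))
  have hcomm : Pairwise fun i j => ∀ x y : X, x ∈ K i → y ∈ K j → Commute x y :=
    fun i j hij x y hx hy => LargeExtraspecial.commute_components (hKc i) (hKc j) (hne hij) hx hy
  refine ⟨Fin (Fintype.card C), inferInstance, fun i => ↥(K i), inferInstance, fun i => ?_, ?_⟩
  · obtain ⟨hs, hna⟩ := simple H hB (hKc i)
    obtain ⟨Q, S, v, -, hS, hvS, hv1, -, -⟩ := exists_component_data H hB (hKc i)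
    haveI := hs
    exact ⟨hs, hna, goldschmidt_group hA hna hS hvS hv1⟩
  have hind : iSupIndep K := by
    intro i
    rw [disjoint_iff, eq_bot_iff]
    rintro x ⟨hx1, hx2⟩
    have hle : (⨆ (j) (_ : j ≠ i), K j) ≤ LargeExtraspecial.rest (K i) :=
      iSup₂_le fun j hj => LargeExtraspecial.le_rest (hKc j) (hne hj.symm)
    exact mem_bot.2 (LargeExtraspecial.eq_one_of_mem hC (hKc i) hx1 (hle hx2))
  have hinj : Function.Injective (Subgroup.noncommPiCoprod hcomm) :=
    Subgroup.injective_noncommPiCoprod_of_iSupIndep hind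
  have hsur : (Subgroup.noncommPiCoprod hcomm).range = ⊤ := by
    rw [Subgroup.noncommPiCoprod_range, eq_top_iff, ← layer_eq_top H hB]
    refine layer_le fun J hJ => ?_
    have h1 : K (e ⟨J, hJ⟩) = J := congrArg Subtype.val (e.symm_apply_apply ⟨J, hJ⟩)
    exact h1.ge.trans (le_iSup K _)
  exact ⟨(MulEquiv.ofBijective _ ⟨hinj, MonoidHom.range_eq_top.1 hsur⟩).symm⟩

end Cfsg.Agent.AbelianSylow.GoldschmidtStruct.Bare
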