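import Cfsg.Agent.EqLemmas
import Cfsg.Agent.Lib.AbelianSylow.GoldschmidtStruct.Bare
import Cfsg.Agent.Lib.Goldschmidt.General.Data

/-!
# `O₂` lies in `A` (owner: helper56)

* `pCore_eq_bot` : if `A ∩ O₂ = 1` then `O₂ = 1`
* `pCore_le` : in general `O₂` lies in `A` and in the centre
-/

set_option autoImplicit false
set_option linter.unusedSectionVars false
set_option linter.style.haveILetI false

namespace Cfsg.Agent.AbelianSylow.GoldschmidtStruct

open Cfsg Subgroup Cfsg.Agent.Goldschmidt Cfsg.Agent.Goldschmidt.General Cfsg.Agent.Components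
open scoped commutatorElement

universe u

variable {X : Type u} [Group X] [Finite X] {T : Sylow 2 X} {A : Subgroup X}

namespace Hyp

variable (H : Hyp X T A)
include H

/-- If `A` meets `O₂` trivially then `O₂` is trivial. -/
theorem pCore_eq_bot (hd : A ⊓ pCore 2 X = ⊥) : pCore 2 X = ⊥ := by
  classical
  haveI : Fact (Nat.Prime 2) := ⟨Nat.prime_two⟩
  set B := pCore 2 X with hBdef
  haveI hBn : B.Normal := Cores.pCore_normal 2 X
  have hB2 : IsPGroup 2 ↥B := Cores.isPGroup_pCore 2 X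
  have hBT : B ≤ (T : Subgroup X) := Cores.pCore_le_sylow T
  have hBc : B ≤ Subgroup.center X := H.le_center_of_centralizes fun a ha =>
    mem_centralizer_iff.2 fun b hb => by
      have h1 : b * a * b⁻¹ * a⁻¹ ∈ A ⊓ B :=
        ⟨A.mul_mem (H.sylow_conj (hBT hb) ha) (A.inv_mem ha), by
          rw [show b * a * b⁻¹ * a⁻¹ = b * (a * b⁻¹ * a⁻¹) by group]
          exact B.mul_mem hb (hBn.conj_mem _ (B.inv_mem hb) a)⟩
      rw [hd, mem_bot, mul_inv_eq_one, mul_inv_eq_iff_eq_mul] at h1
      exact h1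
  -- `A` is elementary
  have hY := H.quotient B hB2 hBc
  have hYB : pCore 2 (X ⧸ B) = ⊥ := Cores.pCore_quotient_self 2 X
  have hsq : ∀ a ∈ A, a * a = 1 := fun a ha => by
    refine mem_bot.1 (hd ▸ (⟨A.mul_mem ha ha, ?_⟩ : a * a ∈ A ⊓ B))
    show a * a ∈ B
    rw [← QuotientGroup.eq_one_iff (N := B), QuotientGroup.mk_mul]
    exact Bare.sq_one hY hYB (mem_map_of_mem (QuotientGroup.mk' B) ha)
  have L : Local X (classSet A) A := H.localOf H.closed hsq
  -- every component is moved
  have hmoved : ∀ K : Subgroup X, Cfsg.IsComponent K → Moved A K := by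
    intro K hK
    by_contra hno
    have h1 := Hyp.le_centralizer_normalClosure H (B := A) (K := K) fun g => not_not.1 fun h => by
      have hM := moved_conj L (⟨IsComponent.conj hK g, h⟩ : Moved A _) g⁻¹
      have e : (K.map (MulAut.conj g).toMonoidHom).map (MulAut.conj g⁻¹).toMonoidHom = K := by
        rw [Subgroup.map_map]
        convert Subgroup.map_id K using 2
        ext x
        simp [mul_assoc]
      rw [e] at hM
      exact hno hM
    have hc := H.le_center_of_centralizes h1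
    refine IsComponent.not_le_centralizer hK fun k hk => mem_centralizer_iff.2 fun y _ => ?_
    exact mem_center_iff.1 (hc (subset_normalClosure hk)) y
  -- the components are simple
  have hsimple : ∀ K : Subgroup X, Cfsg.IsComponent K → Subgroup.center ↥K = ⊥ := by
    intro K hK
    obtain ⟨q, Qb, h, c⟩ := exists_chart L (hmoved K hK)
    refine c.center_eq_bot_of_commute fun y hy b hb => ?_
    obtain ⟨h1, h2⟩ := c.comm_mem hy hb
    refine commutatorElement_eq_one_iff_mul_comm.1 (Subtype.ext (mem_bot.1 (hd ▸ ?_)))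
    exact ⟨h2, centerOf_le_pCore H.core hK ⟨_, h1, rfl⟩⟩
  -- so `A` lies in the layer
  haveI : (Cfsg.layer X).Normal := layer_normal
  have htop : Cfsg.layer X = ⊤ := by
    rw [eq_top_iff, ← H.gen]
    refine normalClosure_le_normal fun a ha => ?_
    obtain ⟨e, he, heA, hec⟩ := exists_layer_mul a A fun K hK => by
      obtain ⟨q, Qb, h, c⟩ := exists_chart L (hmoved K hK)
      obtain ⟨b, hb, hf⟩ := c.act a ha
      exact ⟨b, hb.2, hb.1, hf.2⟩
    have h1 : e * a ∈ A ⊓ B := ⟨A.mul_mem heA ha,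
      ThreePrime.mem_pCore_of_centralizes_layer H.core L.elem (L.subset (A.mul_mem heA ha)) hec⟩
    rw [hd, mem_bot] at h1
    rw [eq_inv_of_mul_eq_one_right h1]
    exact inv_mem he
  refine eq_bot_iff.2 fun z hz => ?_
  have h1 : z ∈ (Subgroup.center ↥(Cfsg.layer X)).map (Cfsg.layer X).subtype :=
    ⟨⟨z, htop ▸ mem_top z⟩, mem_center_iff.2 fun g => Subtype.ext (mem_center_iff.1 (hBc hz) g), rfl⟩
  rw [center_layer_eq] at h1
  refine (iSup_le fun J => ?_ : _ ≤ (⊥ : Subgroup X)) h1
  rw [hsimple J.1 J.2, Subgroup.map_bot]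

/-- `O₂` lies in `A` and in the centre. -/
theorem pCore_le : pCore 2 X ≤ A ∧ pCore 2 X ≤ Subgroup.center X := by
  haveI : Fact (Nat.Prime 2) := ⟨Nat.prime_two⟩
  set B := pCore 2 X with hBdef
  haveI hBn : B.Normal := Cores.pCore_normal 2 X
  set C := A ⊓ B with hC
  have hC2 : IsPGroup 2 ↥C := H.two.to_le inf_le_left
  haveI hCn : C.Normal := ⟨fun c hc g => ⟨H.conj_mem hc.1
    (Cores.pCore_le_sylow T (hBn.conj_mem c hc.2 g)), hBn.conj_mem c hc.2 g⟩⟩
  have hCc : C ≤ Subgroup.center X := H.le_center_of_centralizes fun a ha =>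
    mem_centralizer_iff.2 fun c hc => H.comm c hc.1 a ha
  have hQ := H.quotient C hC2 hCc
  have hB : pCore 2 (X ⧸ C) = B.map (QuotientGroup.mk' C) := (Cores.pCore_quotient_of_isPGroup C hC2).symm
  have hd : A.map (QuotientGroup.mk' C) ⊓ pCore 2 (X ⧸ C) = ⊥ := by
    rw [hB, eq_bot_iff]
    rintro _ ⟨⟨a, ha, rfl⟩, ⟨b, hb, e⟩⟩
    refine mem_bot.2 ((QuotientGroup.eq_one_iff a).2 ⟨ha, ?_⟩)
    have h1 : b⁻¹ * a ∈ C := QuotientGroup.eq.1 e
    simpa using B.mul_mem hb h1.2
  have h0 := hQ.pCore_eq_bot hd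
  rw [hB] at h0
  have hle : B ≤ C := fun b hb =>
    (QuotientGroup.eq_one_iff b).1 (mem_bot.1 (h0 ▸ mem_map_of_mem (QuotientGroup.mk' C) hb))
  exact ⟨hle.trans inf_le_left, hle.trans hCc⟩

end Hyp

end Cfsg.Agent.AbelianSylow.GoldschmidtStruct
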