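import Cfsg.Agent.EqLemmas
import Cfsg.Agent.Lib.AbelianSylow.GoldschmidtStruct.Simple
import Cfsg.Agent.Lib.SFourW.Main
import Cfsg.Agent.S1169
import Cfsg.Agent.S2755

/-!
# Simple groups without a section `S₄` (owner: helper56)

* `exists_closed_of_free` : an `S₄`-free group has an elementary strongly closed subgroup
* `sfour_free_iff_of` : statement S2754 from `CentTarget`
-/

set_option autoImplicit false
set_option linter.unusedSectionVars false
set_option linter.style.haveILetI false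

namespace Cfsg.Agent.AbelianSylow.GoldschmidtStruct

open Cfsg Subgroup

universe u

variable {G : Type u} [Group G] [Finite G]

/-- An `S₄`-free group of even order has a non-trivial elementary strongly closed 2-subgroup. -/
theorem exists_closed_of_free (hfree : ¬ Cfsg.Involves (Equiv.Perm (Fin 4)) G) (h2 : 2 ∣ Nat.card G)
    (S : Sylow 2 G) : ∃ A : Subgroup G, A ≠ ⊥ ∧ (∀ a ∈ A, a * a = 1) ∧
      Cfsg.IsStronglyClosed A (S : Subgroup G) := by
  classical
  haveI : Fact (Nat.Prime 2) := ⟨Nat.prime_two⟩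
  have hG : SFourBound.GoldschmidtThm.{u} := fun _ _ _ _ S A h1 h2 h3 => S1169.result S A h1 h2 h3
  have hsec : SFourClosed.SecBound G := SFourW.secBound_all hG G
  set Z := Cfsg.omegaOne 2 ((S : Subgroup G) ⊓ centralizer ((S : Subgroup G) : Set G)) with hZ
  set N := normalizer (Cfsg.thompsonSubgroupOf 2 (S : Subgroup G) : Set G) with hN
  set A := (normalClosure ((Z.subgroupOf N : Subgroup ↥N) : Set ↥N)).map N.subtype with hA
  have h := SFourClosed.setting_normalClosure S hfree hsec hN hA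
  refine ⟨A, fun e => ?_, fun a ha => by rw [← pow_two]; exact h.hyp.elem.2 a ha,
    h.hyp.le, fun x hx g hg => SFourClosed.meet_normalizer_le hfree h g
      ⟨AlperinFamily.conj_mem_cj g hx, h.hyp.norm hg⟩⟩
  -- a central involution of `S` lies in `A`
  haveI : Nontrivial ↥(S : Subgroup G) := (Subgroup.nontrivial_iff_ne_bot _).2 fun e => by
    have h' := S.dvd_card_of_dvd_card h2
    rw [e, Subgroup.card_bot] at h'
    norm_num at h'
  haveI := S.isPGroup'.center_nontrivial
  obtain ⟨k, hk⟩ := IsPGroup.iff_card.1 (S.isPGroup'.to_subgroup (Subgroup.center ↥(S : Subgroup G)))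
  have hc2 : 2 ∣ Nat.card ↥(Subgroup.center ↥(S : Subgroup G)) := by
    rw [hk]
    refine dvd_pow_self 2 fun h0 => ?_
    rw [h0, pow_zero, Nat.card_eq_one_iff_unique] at hk
    exact not_subsingleton (Subgroup.center ↥(S : Subgroup G)) hk.1
  obtain ⟨z, hz⟩ := exists_prime_orderOf_dvd_card' 2 hc2
  have hzS : ((z : ↥(S : Subgroup G)) : G) ∈ (S : Subgroup G) := SetLike.coe_mem _
  have hzZ : ((z : ↥(S : Subgroup G)) : G) ∈ Z := subset_closure ⟨⟨hzS, mem_centralizer_iff.2 fun y hy =>
    congrArg Subtype.val (mem_center_iff.1 z.2 ⟨y, hy⟩)⟩, by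
      have hp : z ^ 2 = 1 := orderOf_dvd_iff_pow_eq_one.1 hz.dvd
      exact congrArg (fun w : ↥(Subgroup.center ↥(S : Subgroup G)) =>
        ((w : ↥(S : Subgroup G)) : G)) hp⟩
  have hzN : ((z : ↥(S : Subgroup G)) : G) ∈ N :=
    (Subgroup.le_normalizer.trans (PLocal.normalizer_le_normalizer_thompsonSubgroupOf _)) hzS
  have hzA : ((z : ↥(S : Subgroup G)) : G) ∈ A := ⟨⟨_, hzN⟩, subset_normalClosure hzZ, rfl⟩
  rw [e, mem_bot] at hzA
  rw [show z = 1 from Subtype.ext (Subtype.ext hzA), orderOf_one] at hz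
  norm_num at hz

/-- **Simple `S₄`-free groups are the Goldschmidt groups** (S2754). -/
theorem sfour_free_iff_of (hCent : CentTarget.{u}) [IsSimpleGroup G] (hna : ¬ IsMulCommutative G) :
    ¬ Cfsg.Involves (Equiv.Perm (Fin 4)) G ↔ Cfsg.IsGoldschmidtGroup G := by
  refine ⟨fun hfree => ?_, fun h => (S2755.result h).1⟩
  haveI : Fact (Nat.Prime 2) := ⟨Nat.prime_two⟩
  obtain ⟨S⟩ := (inferInstance : Nonempty (Sylow 2 G))
  obtain ⟨A, hne, hel, hsc⟩ := exists_closed_of_free hfree (AbelianSylow.two_dvd hna) S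
  obtain ⟨⟨x, hx⟩, hx1⟩ := ne_bot_iff_exists_ne_one.1 hne
  exact goldschmidt_group hCent hna (Goldschmidt.elem_classSet S hsc hel)
    (Goldschmidt.mem_classSet_of_mem hx) fun e => hx1 (Subtype.ext e)

end Cfsg.Agent.AbelianSylow.GoldschmidtStruct
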